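import Groth.Agent.Sga1.BiratExt
import Mathlib.AlgebraicGeometry.FunctionField
import Mathlib.AlgebraicGeometry.SpreadingOut
import Mathlib.AlgebraicGeometry.Stalk
import Mathlib.AlgebraicGeometry.ValuativeCriterion
import Mathlib.RingTheory.DedekindDomain.Basic
import Mathlib.RingTheory.DedekindDomain.Dvr
import Mathlib.RingTheory.DiscreteValuationRing.TFAE

/-!
# Extension of points of proper schemes from the generic point of a Dedekind scheme
-/

set_option autoImplicit false

universe u

open CategoryTheory CategoryTheory.Limits AlgebraicGeometry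

namespace Groth.Agent.Pi1.H396.ExtDedekind

theorem isFractionRing_stalk (R : Type u) [CommRing R] [IsDomain R] (x : PrimeSpectrum R) (hx : x.asIdeal = ⊥)
    [Algebra R ((Spec (CommRingCat.of R)).presheaf.stalk x)]
    (ha : algebraMap R ((Spec (CommRingCat.of R)).presheaf.stalk x) = (StructureSheaf.toStalk R x).hom) :
    IsFractionRing R ((Spec (CommRingCat.of R)).presheaf.stalk x) := by
  have hp : x.asIdeal.IsPrime := x.isPrime
  have hloc : IsLocalization.AtPrime ((Spec (CommRingCat.of R)).presheaf.stalk x) x.asIdeal := by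
    convert! StructureSheaf.IsLocalization.to_stalk R x
    exact Algebra.algebra_ext _ _ fun r => congr($ha r)
  have h1 : x.asIdeal.primeCompl = nonZeroDivisors R := by
    ext a
    rw [Ideal.mem_primeCompl_iff, hx, Ideal.mem_bot, mem_nonZeroDivisors_iff_ne_zero]
  change IsLocalization (nonZeroDivisors R) _
  rw [← h1]
  exact hloc

/-- The local rings of a Dedekind domain are valuation rings. -/
theorem valuationRing_stalk (R : Type u) [CommRing R] [IsDedekindDomain R] (x : ↥(Spec (CommRingCat.of R))) :
    ∃ _ : IsDomain ((Spec (CommRingCat.of R)).presheaf.stalk x),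
        ValuationRing ((Spec (CommRingCat.of R)).presheaf.stalk x) := by
  have : IsDomain (CommRingCat.of R) := inferInstanceAs (IsDomain R)
  have : IsIntegral (Spec (CommRingCat.of R)) := inferInstance
  have hdom : IsDomain ((Spec (CommRingCat.of R)).presheaf.stalk x) := inferInstance
  refine ⟨hdom, ?_⟩
  let x' : PrimeSpectrum R := x
  let _ : Algebra R ((Spec (CommRingCat.of R)).presheaf.stalk x') :=
    (StructureSheaf.toStalk R x').hom.toAlgebra
  by_cases hx : x'.asIdeal = ⊥
  · have hfr : IsFractionRing R ((Spec (CommRingCat.of R)).presheaf.stalk x') := isFractionRing_stalk R x' hx rfl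
    have hf : IsField ((Spec (CommRingCat.of R)).presheaf.stalk x') :=
      (IsFractionRing.toField R (K := (Spec (CommRingCat.of R)).presheaf.stalk x')).toIsField
    change ValuationRing ((Spec (CommRingCat.of R)).presheaf.stalk x')
    rw [ValuationRing.iff_dvd_total]
    constructor
    intro a b
    by_cases hb : b = 0
    · exact Or.inl ⟨0, by rw [hb, mul_zero]⟩
    · obtain ⟨c, hc⟩ := hf.mul_inv_cancel hb
      exact Or.inr ⟨c * a, by rw [← mul_assoc, hc, one_mul]⟩
  · have hp : x'.asIdeal.IsPrime := x'.isPrime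
    have hloc : IsLocalization.AtPrime ((Spec (CommRingCat.of R)).presheaf.stalk x') x'.asIdeal :=
      StructureSheaf.IsLocalization.to_stalk R x'
    have hd : IsDiscreteValuationRing ((Spec (CommRingCat.of R)).presheaf.stalk x') :=
      IsLocalization.AtPrime.isDiscreteValuationRing_of_dedekind_domain R hx _
    change ValuationRing ((Spec (CommRingCat.of R)).presheaf.stalk x')
    infer_instance

/-- Points of a proper scheme extend over Dedekind domains. -/
theorem exists_extension {S X : Scheme.{u}} (p : X ⟶ S) [IsProper p] (R : Type u) [CommRing R]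
    [IsDedekindDomain R] (K : Type u) [Field K] [Algebra R K] [IsFractionRing R K]
    (q : Spec (CommRingCat.of R) ⟶ S) (x : Spec (CommRingCat.of K) ⟶ X)
    (hx : x ≫ p = Spec.map (CommRingCat.ofHom (algebraMap R K)) ≫ q) :
    ∃ φ : Spec (CommRingCat.of R) ⟶ X, Spec.map (CommRingCat.ofHom (algebraMap R K)) ≫ φ = x ∧ φ ≫ p = q := by
  have : IsDomain (CommRingCat.of R) := inferInstanceAs (IsDomain R)
  have hYI : IsIntegral (Spec (CommRingCat.of R)) := inferInstance
  let η' : PrimeSpectrum R := ⊥
  let η : ↥(Spec (CommRingCat.of R)) := η'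
  let _ : Algebra R ((Spec (CommRingCat.of R)).presheaf.stalk η) :=
    (StructureSheaf.toStalk R η').hom.toAlgebra
  have hfr : IsFractionRing R ((Spec (CommRingCat.of R)).presheaf.stalk η) := isFractionRing_stalk R η' rfl rfl
  let e : K ≃ₐ[R] (Spec (CommRingCat.of R)).presheaf.stalk η := IsLocalization.algEquiv (nonZeroDivisors R) K _
  let ε' : CommRingCat.of K ≅ (Spec (CommRingCat.of R)).presheaf.stalk η := e.toRingEquiv.toCommRingCatIso
  let ε : Spec ((Spec (CommRingCat.of R)).presheaf.stalk η) ⟶ Spec (CommRingCat.of K) := Spec.map ε'.hom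
  have hε : IsIso ε := inferInstanceAs (IsIso (Spec.map ε'.hom))
  have he : ε ≫ Spec.map (CommRingCat.ofHom (algebraMap R K)) = (Spec (CommRingCat.of R)).fromSpecStalk η := by
    refine Eq.trans (Spec.map_comp _ _).symm (Eq.trans ?_ (Spec.fromSpecStalk_eq' (CommRingCat.of R) η).symm)
    congr 1
    ext a
    exact e.commutes a
  obtain ⟨U, hU, f, hf1, hf2⟩ := spread_out_of_isGermInjective' q p (x := η) (ε ≫ x) (by
      rw [Category.assoc, hx, reassoc_of% he])
  have hUd : Dense (U : Set (Spec (CommRingCat.of R))) := U.2.dense ⟨η, hU⟩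
  obtain ⟨W, hUW, h', h1, h2, h3⟩ := Groth.Agent.Sga1.BiratExt.exists_extension q p U hUd f hf2
  have hW : W = ⊤ := by
    ext y
    simp only [TopologicalSpace.Opens.coe_top, Set.mem_univ, iff_true]
    obtain ⟨hd, hv⟩ := valuationRing_stalk R y
    exact h3 y
  subst hW
  have htop : (Spec (CommRingCat.of R)).topIso.inv ≫ (⊤ : (Spec (CommRingCat.of R)).Opens).ι = 𝟙 _ :=
    (Spec (CommRingCat.of R)).topIso.inv_hom_id
  refine ⟨(Spec (CommRingCat.of R)).topIso.inv ≫ h', ?_, ?_⟩
  · have h4 : U.ι ≫ (Spec (CommRingCat.of R)).topIso.inv = (Spec (CommRingCat.of R)).homOfLE hUW := by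
      rw [← cancel_mono (⊤ : (Spec (CommRingCat.of R)).Opens).ι, Category.assoc, Scheme.homOfLE_ι, htop,
        Category.comp_id]
    rw [← cancel_epi ε, reassoc_of% he, hf1, ← Scheme.Opens.fromSpecStalkOfMem_ι U η hU, Category.assoc,
      reassoc_of% h4, h2]
  · rw [Category.assoc, h1, reassoc_of% htop]

end Groth.Agent.Pi1.H396.ExtDedekind
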