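import Mathlib.RingTheory.DedekindDomain.Dvr
import Mathlib.RingTheory.DedekindDomain.Basic
import Mathlib.RingTheory.Localization.FractionRing
import Mathlib.RingTheory.Localization.AtPrime.Basic
import Mathlib.Algebra.Polynomial.Reverse
import Mathlib.RingTheory.Polynomial.Basic
import Mathlib.RingTheory.PrincipalIdealDomain
import Mathlib.RingTheory.Localization.LocalizationLocalization

/-!
# The place at infinity of a rational function field
-/

set_option autoImplicit false

universe u

open Polynomial

namespace Groth.Agent.Pi1.H396.PlaceInf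

/-- The place `X = 0`. -/
theorem exists_place_zero (F : Type u) [Field F] (K : Type u) [Field K] [Algebra F[X] K] [IsFractionRing F[X] K]
    [Algebra F K] [IsScalarTower F F[X] K] :
    ∃ (V : Type u) (_ : CommRing V) (_ : IsDomain V) (_ : IsDiscreteValuationRing V) (_ : Algebra V K)
      (_ : IsFractionRing V K) (_ : Algebra F V) (_ : IsScalarTower F V K) (s : V), Irreducible s ∧
      algebraMap V K s = algebraMap F[X] K X ∧
      ∀ v : V, ∃ c : F, v - algebraMap F V c ∈ IsLocalRing.maximalIdeal V := by
  let P : Ideal F[X] := Ideal.span {X}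
  have hP : P.IsPrime := (Ideal.span_singleton_prime X_ne_zero).mpr Polynomial.prime_X
  have hP0 : P ≠ ⊥ := by
    rw [Ne, Ideal.span_singleton_eq_bot]
    exact X_ne_zero
  let V : Type u := Localization.AtPrime P
  have hdvr : IsDiscreteValuationRing V :=
    IsLocalization.AtPrime.isDiscreteValuationRing_of_dedekind_domain F[X] hP0 V
  let _ : Algebra V K := IsLocalization.localizationAlgebraOfSubmonoidLe V K P.primeCompl (nonZeroDivisors F[X])
    P.primeCompl_le_nonZeroDivisors
  have hst : IsScalarTower F[X] V K :=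
    IsLocalization.localization_isScalarTower_of_submonoid_le V K P.primeCompl (nonZeroDivisors F[X])
      P.primeCompl_le_nonZeroDivisors
  have hfr : IsFractionRing V K :=
    IsFractionRing.isFractionRing_of_isDomain_of_isLocalization P.primeCompl V K
  have hst2 : IsScalarTower F V K := by
    refine IsScalarTower.of_algebraMap_eq fun c => ?_
    rw [IsScalarTower.algebraMap_apply F F[X] K, IsScalarTower.algebraMap_apply F[X] V K,
      ← IsScalarTower.algebraMap_apply F F[X] V]
  have hmax : IsLocalRing.maximalIdeal V = Ideal.span {algebraMap F[X] V X} := by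
    rw [← IsLocalization.AtPrime.map_eq_maximalIdeal P V, Ideal.map_span, Set.image_singleton]
  refine ⟨V, inferInstance, inferInstance, hdvr, inferInstance, hfr, inferInstance, hst2, algebraMap F[X] V X,
    (IsDiscreteValuationRing.irreducible_iff_uniformizer _).mpr hmax,
    (IsScalarTower.algebraMap_apply F[X] V K X).symm, fun v => ?_⟩
  obtain ⟨a, b, rfl⟩ := IsLocalization.exists_mk'_eq P.primeCompl v
  have hb0 : (b : F[X]).coeff 0 ≠ 0 := by
    intro h
    exact b.2 (Ideal.mem_span_singleton.mpr (X_dvd_iff.mpr h))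
  refine ⟨a.coeff 0 / (b : F[X]).coeff 0, ?_⟩
  have hunit : IsUnit (algebraMap F[X] V (b : F[X])) := IsLocalization.map_units V b
  have h1 : (IsLocalization.mk' V a b - algebraMap F V (a.coeff 0 / (b : F[X]).coeff 0)) * algebraMap F[X] V b =
      algebraMap F[X] V (a - C (a.coeff 0 / (b : F[X]).coeff 0) * b) := by
    rw [sub_mul, IsLocalization.mk'_spec, map_sub, map_mul, IsScalarTower.algebraMap_apply F F[X] V]
    rfl
  have h2 : algebraMap F[X] V (a - C (a.coeff 0 / (b : F[X]).coeff 0) * b) ∈ IsLocalRing.maximalIdeal V := by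
    rw [hmax, Ideal.mem_span_singleton]
    apply _root_.map_dvd
    rw [X_dvd_iff, coeff_sub, coeff_C_mul, div_mul_cancel₀ _ hb0, sub_self]
  rw [← h1] at h2
  exact ((IsLocalRing.maximalIdeal.isMaximal V).isPrime.mem_or_mem h2).resolve_right
    fun h => (IsLocalRing.mem_maximalIdeal _).mp h hunit

/-- The place at infinity `1 / X = 0`. -/
theorem exists_place_inf (F : Type u) [Field F] (K : Type u) [Field K] [Algebra F[X] K] [IsFractionRing F[X] K]
    [Algebra F K] [IsScalarTower F F[X] K] :
    ∃ (V : Type u) (_ : CommRing V) (_ : IsDomain V) (_ : IsDiscreteValuationRing V) (_ : Algebra V K)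
      (_ : IsFractionRing V K) (_ : Algebra F V) (_ : IsScalarTower F V K) (s : V), Irreducible s ∧
      algebraMap V K s * algebraMap F[X] K X = 1 ∧
      ∀ v : V, ∃ c : F, v - algebraMap F V c ∈ IsLocalRing.maximalIdeal V := by
  let t : K := algebraMap F[X] K X
  have ht : t ≠ 0 := by
    change algebraMap F[X] K X ≠ 0
    rw [Ne, FaithfulSMul.algebraMap_eq_zero_iff]
    exact X_ne_zero
  let g : F[X] →+* K := Polynomial.eval₂RingHom (algebraMap F K) t⁻¹
  have hgX : g X = t⁻¹ := by simp [g]
  have hgC : ∀ c : F, g (C c) = algebraMap F K c := fun c => by simp [g]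
  have hev : ∀ f : F[X], Polynomial.eval₂ (algebraMap F K) t f = algebraMap F[X] K f := by
    intro f
    have : Polynomial.eval₂RingHom (algebraMap F K) t = algebraMap F[X] K := by
      apply Polynomial.ringHom_ext
      · intro a
        simp only [coe_eval₂RingHom, eval₂_C]
        exact IsScalarTower.algebraMap_apply F F[X] K a
      · simp [t]
    exact congr($this f)
  have hrev : ∀ f : F[X], algebraMap F[X] K f = g f.reverse * t ^ f.natDegree := by
    intro f
    let _ : Invertible t := invertibleOfNonzero ht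
    have h := Polynomial.eval₂_reverse_mul_pow (algebraMap F K) t f
    rw [hev] at h
    rw [← h]
    congr 1
  have hrev' : ∀ f : F[X], g f = algebraMap F[X] K f.reverse * t⁻¹ ^ f.natDegree := by
    intro f
    let _ : Invertible t⁻¹ := invertibleOfNonzero (inv_ne_zero ht)
    have h := Polynomial.eval₂_reverse_mul_pow (algebraMap F K) t⁻¹ f
    change _ = g f at h
    rw [← h, invOf_eq_inv, inv_inv, hev]
  have hginj : Function.Injective g := by
    rw [injective_iff_map_eq_zero]
    intro f hf
    rw [hrev'] at hf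
    rcases mul_eq_zero.mp hf with h | h
    · rw [FaithfulSMul.algebraMap_eq_zero_iff] at h
      exact Polynomial.reverse_eq_zero.mp h
    · exact absurd h (pow_ne_zero _ (inv_ne_zero ht))
  have hsurj : ∀ z : K, ∃ x y, z = g x / g y := by
    intro z
    obtain ⟨a, b, hb, rfl⟩ := IsFractionRing.div_surjective (A := F[X]) z
    refine ⟨a.reverse * X ^ b.natDegree, b.reverse * X ^ a.natDegree, ?_⟩
    rw [hrev a, hrev b, map_mul, map_mul, map_pow, map_pow, hgX]
    have hb0 : b ≠ 0 := nonZeroDivisors.ne_zero hb
    have hgb : g b.reverse ≠ 0 := by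
      rw [Ne, map_eq_zero_iff g hginj]
      exact fun h => hb0 (Polynomial.reverse_eq_zero.mp h)
    have hpow : ∀ m : ℕ, t ^ m * t⁻¹ ^ m = 1 := fun m => by
      rw [← mul_pow, mul_inv_cancel₀ ht, one_pow]
    rw [div_eq_div_iff (mul_ne_zero hgb (pow_ne_zero _ ht)) (mul_ne_zero hgb (pow_ne_zero _ (inv_ne_zero ht)))]
    linear_combination (g a.reverse * g b.reverse) * (hpow a.natDegree) -
      (g a.reverse * g b.reverse) * (hpow b.natDegree)
  have hfrg : @IsFractionRing F[X] _ K _ g.toAlgebra := by
    let _ : Algebra F[X] K := g.toAlgebra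
    have : FaithfulSMul F[X] K := (faithfulSMul_iff_algebraMap_injective F[X] K).mpr hginj
    exact IsFractionRing.of_field F[X] K hsurj
  have hstg : @IsScalarTower F F[X] K _ g.toAlgebra.toSMul _ := by
    let _ : Algebra F[X] K := g.toAlgebra
    refine IsScalarTower.of_algebraMap_eq fun c => ?_
    exact (hgC c).symm
  obtain ⟨V, i1, i2, i3, i4, i5, i6, i7, s, hs, hsX, hres⟩ :=
    @exists_place_zero F _ K _ g.toAlgebra hfrg _ hstg
  refine ⟨V, i1, i2, i3, i4, i5, i6, i7, s, hs, ?_, hres⟩
  have h1 : algebraMap V K s = t⁻¹ := hsX.trans hgX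
  rw [h1]
  exact inv_mul_cancel₀ ht

end Groth.Agent.Pi1.H396.PlaceInf
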