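import Groth.Prelude.Def_Pi1
import Groth.Agent.Pi1A.FEtAffine
import Groth.Agent.Pi1C.SplitAlg
import Mathlib.CategoryTheory.Extensive
import Mathlib.RingTheory.Etale.Pi

/-!
# Formal properties of split finite étale covers
-/

set_option autoImplicit false

universe u

open CategoryTheory CategoryTheory.Limits AlgebraicGeometry TensorProduct
open Groth.Agent.Pi1A.FEtAffine

namespace Groth.Agent.Pi1.H396.SplitGlue

/-- Trivial covers are pulled back. -/
theorem isPullback_trivial {Y S : Scheme.{u}} (g : Y ⟶ S) (ι : Type u) [Finite ι] :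
    IsPullback (Sigma.desc (fun _ : ι => 𝟙 Y)) (Sigma.desc (fun i : ι => g ≫ Sigma.ι (fun _ : ι => S) i))
      g (Sigma.desc (fun _ : ι => 𝟙 S)) := by
  have H := IsUniversalColimit.isPullback_of_isColimit_left
    (X := fun _ : ι ↦ S) (a := Cofan.mk _ (Sigma.ι (fun _ : ι => S)))
    (FinitaryPreExtensive.isUniversal_finiteCoproducts (coproductIsCoproduct _))
    (fun _ ↦ 𝟙 S) (Sigma.desc (fun _ : ι => 𝟙 S)) g (fun _ => 𝟙 Y) (fun _ => g)
    (fun _ ↦ IsPullback.of_horiz_isIso ⟨by simp⟩) (coproductIsCoproduct _)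
    (fun i => by simp [Cofan.inj])
  have e1 : Cofan.IsColimit.desc (coproductIsCoproduct fun _ : ι => Y) (fun _ => 𝟙 Y) =
      Sigma.desc (fun _ : ι => 𝟙 Y) := by
    refine Sigma.hom_ext _ _ fun i => ?_
    rw [Sigma.ι_desc]
    exact Cofan.IsColimit.fac (coproductIsCoproduct fun _ : ι => Y) (fun _ => 𝟙 Y) i
  have e2 : Cofan.IsColimit.desc (coproductIsCoproduct fun _ : ι => Y)
      (fun i => g ≫ (Cofan.mk (∐ fun _ : ι => S) (Sigma.ι fun _ : ι => S)).inj i) =
      Sigma.desc (fun i : ι => g ≫ Sigma.ι (fun _ : ι => S) i) := by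
    refine Sigma.hom_ext _ _ fun i => ?_
    rw [Sigma.ι_desc]
    exact Cofan.IsColimit.fac (coproductIsCoproduct fun _ : ι => Y) _ i
  rw [e1, e2] at H
  exact H

theorem isSplit_of_iso {X : Scheme.{u}} {Y Y' : FEt.Cat X} (i : Y ≅ Y') (h : Pi1.IsSplit Y') :
    Pi1.IsSplit Y := by
  obtain ⟨ι, hι, e, he⟩ := h
  let i' : Y.left ≅ Y'.left :=
    ⟨i.hom.left, i.inv.left, congr(($(i.hom_inv_id)).left), congr(($(i.inv_hom_id)).left)⟩
  refine ⟨ι, hι, i' ≪≫ e, fun j => ?_⟩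
  have h1 : i'.inv ≫ Y.hom = Y'.hom := hom_w i.inv
  rw [Iso.trans_inv, Category.assoc, h1]
  exact he j

theorem isSplit_restrict {X X' : Scheme.{u}} (f : X' ⟶ X) (Y : FEt.Cat X) (h : Pi1.IsSplit Y) :
    Pi1.IsSplit ((FEt.restrict f).obj Y) := by
  obtain ⟨ι, hι, e, he⟩ := h
  have h2 : e.inv ≫ Y.hom = Sigma.desc (fun _ : ι => 𝟙 X) := by
    apply Sigma.hom_ext
    intro i
    rw [he i, Sigma.ι_desc]
  have H := isPullback_trivial f ι
  have H2 : IsPullback (Sigma.desc (fun i : ι => f ≫ Sigma.ι (fun _ : ι => X) i) ≫ e.inv)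
      (Sigma.desc (fun _ : ι => 𝟙 X')) Y.hom f := by
    refine H.flip.of_iso (Iso.refl _) e.symm (Iso.refl _) (Iso.refl _) ?_ ?_ ?_ ?_
    · simp
    · simp
    · rw [Iso.refl_hom, Category.comp_id, Iso.symm_hom, h2]
    · simp
  have H3 := isPullback f Y
  refine ⟨ι, hι, H3.isoIsPullback _ _ H2, fun i => ?_⟩
  rw [IsPullback.isoIsPullback_inv_snd, Sigma.ι_desc]

theorem isSplit_ofAlgebra_pi (A : Type u) [CommRing A] (ι : Type u) [Finite ι] :
    Pi1.IsSplit (ofAlgebra A (ι → A)) := by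
  have hiso : IsIso (sigmaSpec fun _ : ι => CommRingCat.of A) := inferInstance
  let e' : (∐ fun _ : ι => Spec (CommRingCat.of A)) ≅ Spec (CommRingCat.of (ι → A)) :=
    @asIso _ _ _ _ (sigmaSpec fun _ : ι => CommRingCat.of A) hiso
  refine ⟨ι, inferInstance, e'.symm, fun i => ?_⟩
  rw [ofAlgebra_hom]
  change Sigma.ι _ i ≫ sigmaSpec (fun _ : ι => CommRingCat.of A) ≫ _ = _
  rw [ι_sigmaSpec_assoc, ← Spec.map_comp, ← Spec.map_id]
  rfl

theorem isSplit_ofAlgebra {A : Type u} [CommRing A] {B : Type u} [CommRing B] [Algebra A B] [Module.Finite A B]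
    [Algebra.Etale A B] {ι : Type*} [Finite ι] (e : B ≃ₐ[A] (ι → A)) : Pi1.IsSplit (ofAlgebra A B) := by
  let κ : Type u := ULift.{u} (Fin (Nat.card ι))
  let e1 : κ ≃ ι := Equiv.ulift.trans (Finite.equivFin ι).symm
  let e2 : (κ → A) ≃ₐ[A] B := (AlgEquiv.piCongrLeft' A (fun _ : ι => A) e1.symm).symm.trans e.symm
  exact isSplit_of_iso (isoOfAlgEquiv e2) (isSplit_ofAlgebra_pi A κ)

/-- The trivial cover pulled back from an affine base. -/
noncomputable def triv {X : Scheme.{u}} {A : Type u} [CommRing A] (q : X ⟶ Spec (CommRingCat.of A)) (ι : Type u)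
    [Finite ι] : FEt.Cat X := (FEt.restrict q).obj (ofAlgebra A (ι → A))

theorem isSplit_triv {X : Scheme.{u}} {A : Type u} [CommRing A] (q : X ⟶ Spec (CommRingCat.of A)) (ι : Type u)
    [Finite ι] : Pi1.IsSplit (triv q ι) :=
  isSplit_restrict _ _ (isSplit_ofAlgebra_pi A ι)

/-- Split covers with the same index set are isomorphic. -/
theorem nonempty_iso_triv {X : Scheme.{u}} {A : Type u} [CommRing A] (q : X ⟶ Spec (CommRingCat.of A))
    (Y : FEt.Cat X) (h : Pi1.IsSplit Y) : ∃ (ι : Type u) (_ : Finite ι), Nonempty (Y ≅ triv q ι) := by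
  obtain ⟨ι, hι, e, he⟩ := h
  refine ⟨ι, hι, ?_⟩
  have hiso : IsIso (sigmaSpec fun _ : ι => CommRingCat.of A) := inferInstance
  let S := Spec (CommRingCat.of A)
  let e' : (∐ fun _ : ι => S) ≅ Spec (CommRingCat.of (ι → A)) :=
    @asIso _ _ _ _ (sigmaSpec fun _ : ι => CommRingCat.of A) hiso
  have h1 : e'.hom ≫ (ofAlgebra A (ι → A)).hom = Sigma.desc (fun _ : ι => 𝟙 S) := by
    rw [ofAlgebra_hom]
    apply Sigma.hom_ext
    intro i
    change Sigma.ι _ i ≫ sigmaSpec (fun _ : ι => CommRingCat.of A) ≫ _ = _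
    rw [ι_sigmaSpec_assoc, ← Spec.map_comp, Sigma.ι_desc, ← Spec.map_id]
    rfl
  have h2 : e.inv ≫ Y.hom = Sigma.desc (fun _ : ι => 𝟙 X) := by
    apply Sigma.hom_ext
    intro i
    rw [he i, Sigma.ι_desc]
  have H := isPullback_trivial q ι
  have H2 : IsPullback (e.hom ≫ Sigma.desc (fun i : ι => q ≫ Sigma.ι (fun _ : ι => S) i) ≫ e'.hom)
      Y.hom (ofAlgebra A (ι → A)).hom q := by
    refine H.flip.of_iso e.symm (e') (Iso.refl _) (Iso.refl _) ?_ ?_ ?_ ?_
    · simp [S]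
    · rw [Iso.refl_hom, Category.comp_id, Iso.symm_hom, h2]
    · rw [Iso.refl_hom, Category.comp_id, h1]
    · simp
  exact ⟨isoMk (H2.isoPullback) H2.isoPullback_hom_snd⟩

/-- If restriction along `f` is fully faithful then a cover which splits after restriction is split. -/
theorem isSplit_of_restrict {X X' : Scheme.{u}} {A : Type u} [CommRing A] (q : X ⟶ Spec (CommRingCat.of A))
    (f : X' ⟶ X) (hfull : (FEt.restrict f).Full) (hfaith : (FEt.restrict f).Faithful) (Y : FEt.Cat X)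
    (h : Pi1.IsSplit ((FEt.restrict f).obj Y)) : Pi1.IsSplit Y := by
  obtain ⟨ι, hι, ⟨i⟩⟩ := nonempty_iso_triv (f ≫ q) _ h
  let j : triv (f ≫ q) ι ≅ (FEt.restrict f).obj (triv q ι) := (restrictComp f q).app _
  exact isSplit_of_iso ((Functor.FullyFaithful.ofFullyFaithful (FEt.restrict f)).preimageIso (i ≪≫ j))
    (isSplit_triv q ι)

end Groth.Agent.Pi1.H396.SplitGlue
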