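import Groth.Agent.Pi1.H396.P1Tensor
import Groth.Agent.Pi1.H396.PlaceInf
import Groth.Agent.Pi1.H396.ExtDedekind
import Groth.Agent.Pi1.H396.SplitGlue
import Mathlib.RingTheory.TotallySplit
import Mathlib.FieldTheory.RatFunc.AsPolynomial
import Mathlib.Algebra.MvPolynomial.Equiv
import Mathlib.RingTheory.MvPolynomial.Basic
import Mathlib.FieldTheory.IsAlgClosed.Basic
import Mathlib.RingTheory.DedekindDomain.PID

/-!
# Pullbacks of finite étale covers of proper schemes to rational function fields are split

`k` algebraically closed, `p : X ⟶ Spec k` proper, `Y` a finite étale cover of `X`: for every `k`-morphism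
`x : Spec k(t_1, ..., t_r) ⟶ X` the cover `x^* Y` is split.
-/

set_option autoImplicit false

universe u

open CategoryTheory CategoryTheory.Limits AlgebraicGeometry TensorProduct
open Groth.Agent.Pi1A.FEtAffine

namespace Groth.Agent.Pi1.H396.Core

/-- All pullbacks of the cover `Y` of the `k`-scheme `X` to `F`-valued points are split. -/
def Splits {k : Type u} [Field k] {X : Scheme.{u}} (p : X ⟶ Spec (CommRingCat.of k)) (Y : FEt.Cat X)
    (F : Type u) [Field F] [Algebra k F] : Prop :=
  ∀ x : Spec (CommRingCat.of F) ⟶ X, x ≫ p = Spec.map (CommRingCat.ofHom (algebraMap k F)) →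
    Pi1.IsSplit ((FEt.restrict x).obj Y)

theorem nonempty_iso_baseChange {X : Scheme.{u}} (Y : FEt.Cat X) {R R' : Type u} [CommRing R] [CommRing R']
    [Algebra R R'] (φ : Spec (CommRingCat.of R) ⟶ X) (x : Spec (CommRingCat.of R') ⟶ X)
    (h : Spec.map (CommRingCat.ofHom (algebraMap R R')) ≫ φ = x) (A : Type u) [CommRing A] [Algebra R A]
    [Module.Finite R A] [Algebra.Etale R A] (i : (FEt.restrict φ).obj Y ≅ ofAlgebra R A) :
    Nonempty ((FEt.restrict x).obj Y ≅ ofAlgebra R' (R' ⊗[R] A)) :=
  ⟨(restrictCongr h.symm).app Y ≪≫ (restrictComp (specMap R R') φ).app Y ≪≫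
    (FEt.restrict (specMap R R')).mapIso i ≪≫ restrictOfAlgebraIso R R' A⟩

open Polynomial in
/-- The induction step. -/
theorem splits_step {k : Type u} [Field k] {X : Scheme.{u}} (p : X ⟶ Spec (CommRingCat.of k)) [IsProper p]
    (Y : FEt.Cat X) (F : Type u) [Field F] [Algebra k F] (K : Type u) [Field K] [Algebra k K]
    [Algebra F[X] K] [IsFractionRing F[X] K] [Algebra F K] [IsScalarTower F F[X] K] [IsScalarTower k F K]
    (hF : Splits p Y F) : Splits p Y K := by
  intro x hx
  obtain ⟨V, _, _, _, _, _, _, _, s, hs, hst, hres⟩ := PlaceInf.exists_place_inf F K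
  -- extension to the affine line
  have htow : (algebraMap F[X] K).comp (Polynomial.C.comp (algebraMap k F)) = algebraMap k K := by
    ext c
    change algebraMap F[X] K (algebraMap F F[X] (algebraMap k F c)) = _
    rw [← IsScalarTower.algebraMap_apply F F[X] K, ← IsScalarTower.algebraMap_apply k F K]
  have htowV : (algebraMap V K).comp ((algebraMap F V).comp (algebraMap k F)) = algebraMap k K := by
    ext c
    change algebraMap V K (algebraMap F V (algebraMap k F c)) = _
    rw [← IsScalarTower.algebraMap_apply F V K, ← IsScalarTower.algebraMap_apply k F K]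
  let q : Spec (CommRingCat.of F[X]) ⟶ Spec (CommRingCat.of k) :=
    Spec.map (CommRingCat.ofHom (Polynomial.C.comp (algebraMap k F)))
  let qV : Spec (CommRingCat.of V) ⟶ Spec (CommRingCat.of k) :=
    Spec.map (CommRingCat.ofHom ((algebraMap F V).comp (algebraMap k F)))
  obtain ⟨φ, hφ1, hφ2⟩ := ExtDedekind.exists_extension p F[X] K q x (by
    rw [hx, ← Spec.map_comp, ← CommRingCat.ofHom_comp, htow])
  obtain ⟨ψ, hψ1, hψ2⟩ := ExtDedekind.exists_extension p V K qV x (by
    rw [hx, ← Spec.map_comp, ← CommRingCat.ofHom_comp, htowV])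
  obtain ⟨A, _, _, _, _, ⟨iA⟩⟩ := exists_iso_ofAlgebra ((FEt.restrict φ).obj Y)
  obtain ⟨C', _, _, _, _, ⟨iC⟩⟩ := exists_iso_ofAlgebra ((FEt.restrict ψ).obj Y)
  obtain ⟨jA⟩ := nonempty_iso_baseChange Y φ x hφ1 A iA
  obtain ⟨jC⟩ := nonempty_iso_baseChange Y ψ x hψ1 C' iC
  let ε : K ⊗[V] C' ≃ₐ[K] K ⊗[F[X]] A := algEquivOfIso (jA.symm ≪≫ jC)
  -- the special fibre
  let _ : Algebra F[X] F := (Polynomial.evalRingHom (0 : F)).toAlgebra
  have h0 : ∀ f : F[X], algebraMap F[X] F f = f.eval 0 := fun f => rfl
  let x0 : Spec (CommRingCat.of F) ⟶ X := Spec.map (CommRingCat.ofHom (algebraMap F[X] F)) ≫ φ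
  have hx0 : x0 ≫ p = Spec.map (CommRingCat.ofHom (algebraMap k F)) := by
    rw [Category.assoc, hφ2, ← Spec.map_comp, ← CommRingCat.ofHom_comp]
    congr 2
    ext c
    change (Polynomial.C (algebraMap k F c)).eval 0 = _
    rw [Polynomial.eval_C]
  have hsplit := hF x0 hx0
  obtain ⟨j0⟩ := nonempty_iso_baseChange Y φ x0 rfl A iA
  obtain ⟨ι, hι, ⟨e0⟩⟩ := Groth.Agent.Pi1C.SplitAlg.nonempty_algEquiv_pi_of_isSplit _ j0 hsplit
  obtain ⟨d, ⟨e⟩⟩ := P1Tensor.split hs hst hres A C' ε h0 e0
  exact SplitGlue.isSplit_of_iso jA (SplitGlue.isSplit_ofAlgebra e.symm)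

/-- Points with values in separably closed fields. -/
theorem splits_of_isSepClosed {k : Type u} [Field k] {X : Scheme.{u}} (p : X ⟶ Spec (CommRingCat.of k))
    (Y : FEt.Cat X) (F : Type u) [Field F] [Algebra k F] [IsSepClosed F] : Splits p Y F := by
  intro x _
  obtain ⟨A, _, _, _, _, ⟨iA⟩⟩ := exists_iso_ofAlgebra ((FEt.restrict x).obj Y)
  obtain ⟨n, ⟨e⟩⟩ := Algebra.IsFiniteSplit.nonempty_algEquiv_fun F A
  exact SplitGlue.isSplit_of_iso iA (SplitGlue.isSplit_ofAlgebra e)

/-- Invariance under isomorphism of fields. -/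
theorem splits_of_algEquiv {k : Type u} [Field k] {X : Scheme.{u}} (p : X ⟶ Spec (CommRingCat.of k))
    (Y : FEt.Cat X) (F F' : Type u) [Field F] [Algebra k F] [Field F'] [Algebra k F'] (e : F ≃ₐ[k] F')
    (h : Splits p Y F) : Splits p Y F' := by
  intro x hx
  let e' : CommRingCat.of F ≅ CommRingCat.of F' := e.toRingEquiv.toCommRingCatIso
  have h1 := h (Spec.map e'.inv ≫ x) (by
    rw [Category.assoc, hx, ← Spec.map_comp]
    congr 1
    ext c
    exact e.symm.commutes c)
  have h2 := SplitGlue.isSplit_restrict (Spec.map e'.hom) _ h1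
  refine SplitGlue.isSplit_of_iso ?_ h2
  exact (restrictCongr (by rw [← Category.assoc, ← Spec.map_comp, e'.inv_hom_id, Spec.map_id, Category.id_comp])).app Y ≪≫
    (restrictComp (Spec.map e'.hom) (Spec.map e'.inv ≫ x)).app Y

section

open Polynomial

attribute [local instance] Polynomial.algebra

theorem splits_fractionRing_polynomial {k : Type u} [Field k] {X : Scheme.{u}}
    (p : X ⟶ Spec (CommRingCat.of k)) [IsProper p] (Y : FEt.Cat X) (D : Type u) [CommRing D] [IsDomain D]
    [Algebra k D] (F : Type u) [Field F] [Algebra k F] [Algebra D F] [IsFractionRing D F] [IsScalarTower k D F]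
    (h : Splits p Y F) : Splits p Y (FractionRing D[X]) := by
  have hloc : IsLocalization ((nonZeroDivisors D).map (C : D →+* D[X])) F[X] :=
    Polynomial.isLocalization (nonZeroDivisors D) F
  have hle : (nonZeroDivisors D).map (C : D →+* D[X]) ≤ nonZeroDivisors D[X] := by
    rintro _ ⟨d, hd, rfl⟩
    rw [mem_nonZeroDivisors_iff_ne_zero]
    exact fun h => (nonZeroDivisors.ne_zero hd) (C_eq_zero.mp h)
  let _ : Algebra F[X] (FractionRing D[X]) :=
    IsLocalization.localizationAlgebraOfSubmonoidLe F[X] (FractionRing D[X])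
      ((nonZeroDivisors D).map (C : D →+* D[X])) (nonZeroDivisors D[X]) hle
  have hst : IsScalarTower D[X] F[X] (FractionRing D[X]) :=
    IsLocalization.localization_isScalarTower_of_submonoid_le F[X] (FractionRing D[X])
      ((nonZeroDivisors D).map (C : D →+* D[X])) (nonZeroDivisors D[X]) hle
  have hfr : IsFractionRing F[X] (FractionRing D[X]) :=
    IsFractionRing.isFractionRing_of_isDomain_of_isLocalization ((nonZeroDivisors D).map (C : D →+* D[X]))
      F[X] (FractionRing D[X])
  let _ : Algebra F (FractionRing D[X]) := ((algebraMap F[X] (FractionRing D[X])).comp C).toAlgebra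
  have hst2 : IsScalarTower F F[X] (FractionRing D[X]) := IsScalarTower.of_algebraMap_eq fun _ => rfl
  have hst3 : IsScalarTower k F (FractionRing D[X]) := by
    refine IsScalarTower.of_algebraMap_eq fun c => ?_
    rw [IsScalarTower.algebraMap_apply k D[X] (FractionRing D[X]),
      IsScalarTower.algebraMap_apply D[X] F[X] (FractionRing D[X])]
    change _ = algebraMap F[X] (FractionRing D[X]) (C (algebraMap k F c))
    congr 1
    rw [IsScalarTower.algebraMap_apply k D F]
    change Polynomial.map (algebraMap D F) (C (algebraMap k D c)) = _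
    rw [Polynomial.map_C]
  exact splits_step p Y F (FractionRing D[X]) h

end

/-- The pullback of a finite étale cover of a proper scheme over an algebraically closed field `k` to a point with
values in a field of rational functions over `k` is split. -/
theorem splits_mvPolynomial {k : Type u} [Field k] [IsSepClosed k] {X : Scheme.{u}}
    (p : X ⟶ Spec (CommRingCat.of k)) [IsProper p] (Y : FEt.Cat X) (r : ℕ) :
    Splits p Y (FractionRing (MvPolynomial (Fin r) k)) := by
  induction r with
  | zero =>
    refine splits_of_algEquiv p Y k _ ?_ (splits_of_isSepClosed p Y k)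
    exact IsFractionRing.algEquivOfAlgEquiv (MvPolynomial.isEmptyAlgEquiv k (Fin 0)).symm
  | succ r ih =>
    refine splits_of_algEquiv p Y (FractionRing (Polynomial (MvPolynomial (Fin r) k))) _ ?_
      (splits_fractionRing_polynomial p Y (MvPolynomial (Fin r) k) (FractionRing (MvPolynomial (Fin r) k)) ih)
    exact IsFractionRing.algEquivOfAlgEquiv (MvPolynomial.finSuccEquiv k r).symm

theorem core {k : Type u} [Field k] [IsSepClosed k] (X : Scheme.{u}) (p : X ⟶ Spec (CommRingCat.of k)) [IsProper p]
    (r : ℕ) (x : Spec (CommRingCat.of (FractionRing (MvPolynomial (Fin r) k))) ⟶ X)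
    (hx : x ≫ p = Spec.map (CommRingCat.ofHom (algebraMap k (FractionRing (MvPolynomial (Fin r) k)))))
    (Y : FEt.Cat X) : Pi1.IsSplit ((FEt.restrict x).obj Y) :=
  splits_mvPolynomial p Y r x hx

end Groth.Agent.Pi1.H396.Core
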