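import Mathlib.RingTheory.Length
import Mathlib.RingTheory.FiniteLength
import Mathlib.RingTheory.LocalRing.ResidueField.Basic
import Mathlib.RingTheory.OrderOfVanishing.Basic
import Mathlib.RingTheory.DiscreteValuationRing.Basic
import Mathlib.LinearAlgebra.Dimension.Finrank
import Groth.Agent.MiscA.LenDet

/-!
# Length over a local algebra with residue field the ground field
-/

set_option autoImplicit false

universe u v w

namespace Groth.Agent.Pi1.H396.LenRes

theorem length_eq_aux {F : Type u} {V : Type v} [Field F] [CommRing V] [IsLocalRing V] [Algebra F V]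
    (hres : ∀ v : V, ∃ c : F, v - algebraMap F V c ∈ IsLocalRing.maximalIdeal V)
    {M : Type w} [AddCommGroup M] [Module V M] (hM : IsFiniteLength V M) :
    ∀ [Module F M] [IsScalarTower F V M], Module.length F M = Module.length V M := by
  induction hM with
  | of_subsingleton =>
    intro _ _
    rw [Module.length_eq_zero, Module.length_eq_zero]
  | @of_simple_quotient M _ _ N _ hN ih =>
    intro _ _
    have h1 : Module.length F N = Module.length V N := ih
    have hV := Module.length_eq_add_of_exact N.subtype N.mkQ N.subtype_injective N.mkQ_surjective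
      (LinearMap.exact_subtype_mkQ N)
    have hF := Module.length_eq_add_of_exact (N.subtype.restrictScalars F) (N.mkQ.restrictScalars F)
      N.subtype_injective N.mkQ_surjective (LinearMap.exact_subtype_mkQ N)
    rw [hV, hF, h1]
    congr 1
    rw [Module.length_eq_one V (M ⧸ N)]
    -- a simple module is one-dimensional over `F`
    obtain ⟨m, hm, ⟨e⟩⟩ := isSimpleModule_iff_quot_maximal.mp (inferInstance : IsSimpleModule V (M ⧸ N))
    have hmm : m = IsLocalRing.maximalIdeal V := IsLocalRing.eq_maximalIdeal hm
    subst hmm
    have h2 : Module.length F (M ⧸ N) = Module.length F (V ⧸ IsLocalRing.maximalIdeal V) :=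
      (e.restrictScalars F).length_eq
    rw [h2]
    have h3 : Function.Surjective (Algebra.linearMap F (V ⧸ IsLocalRing.maximalIdeal V)) := by
      intro x
      obtain ⟨v, rfl⟩ := Ideal.Quotient.mk_surjective x
      obtain ⟨c, hc⟩ := hres v
      refine ⟨c, ?_⟩
      rw [Algebra.linearMap_apply, IsScalarTower.algebraMap_apply F V]
      exact (Ideal.Quotient.eq.mpr hc).symm
    have h4 : Function.Injective (Algebra.linearMap F (V ⧸ IsLocalRing.maximalIdeal V)) :=
      (algebraMap F (V ⧸ IsLocalRing.maximalIdeal V)).injective
    rw [← (LinearEquiv.ofBijective _ ⟨h4, h3⟩).length_eq]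
    rw [Module.length_eq_finrank]
    simp

/-- Over a local `F`-algebra `V` with `F → V/m` surjective, lengths over `F` and over `V` agree. -/
theorem length_eq {F : Type u} {V : Type v} [Field F] [CommRing V] [IsLocalRing V] [Algebra F V]
    (hres : ∀ v : V, ∃ c : F, v - algebraMap F V c ∈ IsLocalRing.maximalIdeal V)
    {M : Type w} [AddCommGroup M] [Module V M] [Module F M] [IsScalarTower F V M]
    (hM : IsFiniteLength V M) : Module.length F M = Module.length V M :=
  length_eq_aux hres hM

/-- Over a discrete valuation ring `V` with residue field `F`, the cokernel of a square matrix with determinant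
`s ^ N * unit` is of dimension `N` over `F`. -/
theorem finrank_coker {F : Type u} {V : Type v} [Field F] [CommRing V] [IsDomain V]
    [IsDiscreteValuationRing V] [Algebra F V]
    (hres : ∀ v : V, ∃ c : F, v - algebraMap F V c ∈ IsLocalRing.maximalIdeal V)
    {n : Type} [Fintype n] [DecidableEq n] (Q : Matrix n n V) (s u : V) (hs : Irreducible s) (hu : IsUnit u)
    (N : ℕ) (hQ : Q.det = s ^ N * u) :
    Module.Finite F ((n → V) ⧸ LinearMap.range Q.mulVecLin) ∧
      Module.finrank F ((n → V) ⧸ LinearMap.range Q.mulVecLin) = N := by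
  have hs0 : s ∈ nonZeroDivisors V := mem_nonZeroDivisors_of_ne_zero hs.ne_zero
  have hdet : Q.det ∈ nonZeroDivisors V := by
    rw [hQ]
    exact mul_mem (pow_mem hs0 N) hu.mem_nonZeroDivisors
  have h1 := Groth.Agent.MiscA.LenDet.cokerLen_eq_ord_det Q hdet
  unfold Groth.Agent.MiscA.LenDetDomain.cokerLen at h1
  rw [hQ, Ring.ord_mul_of_isUnit_right hu, Ring.ord_pow hs0, Ring.ord_of_irreducible hs] at h1
  have h2 : IsFiniteLength V ((n → V) ⧸ LinearMap.range Q.mulVecLin) := by
    rw [← Module.length_ne_top_iff, h1]
    simp
  have h3 : Module.length F ((n → V) ⧸ LinearMap.range Q.mulVecLin) = N := by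
    rw [length_eq hres h2, h1]
    simp
  have h4 : IsFiniteLength F ((n → V) ⧸ LinearMap.range Q.mulVecLin) := by
    rw [← Module.length_ne_top_iff, h3]
    exact ENat.coe_ne_top N
  have h5 : IsNoetherian F ((n → V) ⧸ LinearMap.range Q.mulVecLin) :=
    ((isFiniteLength_iff_isNoetherian_isArtinian).1 h4).1
  refine ⟨inferInstance, ?_⟩
  rw [Module.length_eq_finrank] at h3
  exact_mod_cast h3

end Groth.Agent.Pi1.H396.LenRes
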