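import Groth.Agent.Pi1.H396.PolyInf
import Mathlib.RingTheory.Discriminant
import Mathlib.RingTheory.IntegralClosure.IntegrallyClosed
import Mathlib.RingTheory.Valuation.ValuationRing
import Mathlib.RingTheory.Polynomial.RationalRoot

/-!
# Finite étale covers of the projective line which split over a rational point are split (algebraic core)
-/

set_option autoImplicit false

universe u v w

open Polynomial

namespace Groth.Agent.Pi1.H396.P1Core

open Module

/-- A `K`-algebra of dimension `d` containing `d` nonzero orthogonal idempotents with sum `1` is `K^d`. -/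
theorem algEquiv_of_idem {K : Type u} [Field K] {E : Type v} [CommRing E] [Algebra K E] {d : ℕ}
    (hd : Module.finrank K E = d) [Module.Finite K E] (e : Fin d → E) (hmul : ∀ i j, e i * e j = if i = j then e i else 0)
    (hsum : ∑ i, e i = 1) (hne : ∀ i, e i ≠ 0) : Nonempty ((Fin d → K) ≃ₐ[K] E) := by
  let L : (Fin d → K) →ₗ[K] E := ∑ i, (LinearMap.proj (R := K) (φ := fun _ : Fin d => K) i).smulRight (e i)
  have hL : ∀ x, L x = ∑ i, x i • e i := fun x => by simp [L]
  have h1 : L 1 = 1 := by
    rw [hL]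
    simpa using hsum
  have hm : ∀ x y, L (x * y) = L x * L y := by
    intro x y
    rw [hL, hL, hL, Finset.sum_mul_sum]
    refine Finset.sum_congr rfl fun i _ => ?_
    rw [Finset.sum_eq_single i]
    · rw [smul_mul_smul_comm, hmul, if_pos rfl]
      rfl
    · intro j _ hj
      rw [smul_mul_smul_comm, hmul, if_neg (Ne.symm hj), smul_zero]
    · intro h
      exact absurd (Finset.mem_univ i) h
  have hinj : Function.Injective L := by
    rw [← LinearMap.ker_eq_bot, LinearMap.ker_eq_bot']
    intro x hx
    ext j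
    have h2 : L x * e j = 0 := by rw [hx, zero_mul]
    rw [hL, Finset.sum_mul, Finset.sum_eq_single j] at h2
    · rw [smul_mul_assoc, hmul, if_pos rfl] at h2
      exact (smul_eq_zero.mp h2).resolve_right (hne j)
    · intro i _ hi
      rw [smul_mul_assoc, hmul, if_neg hi, smul_zero]
    · intro h
      exact absurd (Finset.mem_univ j) h
  have hbij : Function.Bijective L := by
    refine ⟨hinj, ?_⟩
    refine (LinearMap.injective_iff_surjective_of_finrank_eq_finrank ?_).mp hinj
    rw [hd]
    simp
  exact ⟨AlgEquiv.ofBijective (AlgHom.ofLinearMap L h1 hm) hbij⟩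

variable {F : Type u} [Field F] {K : Type u} [Field K] [Algebra F[X] K] [Algebra F K] [IsScalarTower F F[X] K]
  [FaithfulSMul F[X] K]
  {V : Type u} [CommRing V] [IsDomain V] [IsDiscreteValuationRing V] [Algebra V K] [IsFractionRing V K]
  [Algebra F V] [IsScalarTower F V K]

theorem split_of_lattices {s : V} (hs : Irreducible s)
    (hst : algebraMap V K s * algebraMap F[X] K X = 1)
    (hres : ∀ v : V, ∃ c : F, v - algebraMap F V c ∈ IsLocalRing.maximalIdeal V)
    {E : Type v} [CommRing E] [Algebra K E] [IsReduced E]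
    {A : Type w} [CommRing A] [Algebra F[X] A] (φ : A →+* E)
    (hφ : ∀ f, φ (algebraMap F[X] A f) = algebraMap K E (algebraMap F[X] K f))
    {C' : Type w} [CommRing C'] [Algebra V C'] (ψ : C' →+* E)
    (hψ : ∀ v, ψ (algebraMap V C' v) = algebraMap K E (algebraMap V K v))
    {d : ℕ} (a : Basis (Fin d) F[X] A) (a' : Basis (Fin d) K E) (ha : ∀ i, φ (a i) = a' i)
    (c : Basis (Fin d) V C') (c' : Basis (Fin d) K E) (hc : ∀ i, ψ (c i) = c' i)
    (hua : IsUnit (Algebra.discr F[X] a)) (huc : IsUnit (Algebra.discr V c))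
    (hda : Algebra.discr K a' = algebraMap F[X] K (Algebra.discr F[X] a))
    (hdc : Algebra.discr K c' = algebraMap V K (Algebra.discr V c))
    (χ : A →+* (Fin d → F)) (hχ : ∀ z : F, χ (algebraMap F[X] A (C z)) = fun _ => z)
    (hχ0 : ∀ x, χ x = 0 → ∃ y, x = algebraMap F[X] A X * y) :
    Nonempty ((Fin d → K) ≃ₐ[K] E) := by
  -- the transition matrix
  let P : Matrix (Fin d) (Fin d) K := a'.toMatrix c'
  have hP : ∀ j, c' j = ∑ i, P i j • a' i := fun j => (a'.sum_toMatrix_smul_self c' j).symm
  have hdet2 : Algebra.discr K c' = P.det ^ 2 * Algebra.discr K a' := by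
    rw [← Algebra.discr_of_matrix_vecMul, a'.toMatrix_map_vecMul]
  obtain ⟨c0, hc0, hc0'⟩ : ∃ c0 : F, c0 ≠ 0 ∧ algebraMap F[X] K (Algebra.discr F[X] a) = algebraMap V K (algebraMap F V c0) := by
    obtain ⟨c0, hc0, h⟩ := Polynomial.isUnit_iff.mp hua
    refine ⟨c0, hc0.ne_zero, ?_⟩
    rw [← h, ← IsScalarTower.algebraMap_apply F V K, IsScalarTower.algebraMap_apply F F[X] K]
    rfl
  have hinjV : Function.Injective (algebraMap V K) := FaithfulSMul.algebraMap_injective V K
  have huc0 : IsUnit (algebraMap F V c0) := (isUnit_iff_ne_zero.mpr hc0).map _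
  obtain ⟨u, hu, hPu⟩ : ∃ u : V, IsUnit u ∧ P.det = algebraMap V K u := by
    obtain ⟨t0, ht0⟩ := huc0.exists_right_inv
    have h1 : P.det ^ 2 = algebraMap V K (Algebra.discr V c * t0) := by
      have h2 : algebraMap V K (algebraMap F V c0) * algebraMap V K t0 = 1 := by
        rw [← map_mul, ht0, map_one]
      rw [map_mul, ← hdc, hdet2, hda, hc0', mul_assoc, h2, mul_one]
    have hint : ∃ y : V, algebraMap V K y = P.det := by
      apply IsIntegrallyClosed.exists_algebraMap_eq_of_isIntegral_pow (n := 2) two_pos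
      rw [h1]
      exact isIntegral_algebraMap
    obtain ⟨u, hu⟩ := hint
    refine ⟨u, ?_, hu.symm⟩
    have h3 : u ^ 2 = Algebra.discr V c * t0 := by
      apply hinjV
      rw [map_pow, hu, h1]
    have h4 : IsUnit (u ^ 2) := by
      rw [h3]
      refine huc.mul ?_
      exact IsUnit.of_mul_eq_one (algebraMap F V c0) (by rw [mul_comm]; exact ht0)
    exact (isUnit_pow_iff two_ne_zero).mp h4
  obtain ⟨w, hw, hwg⟩ := PolyInf.exists_linearIndependent hs hst hres P hu hPu
  choose g hg using hwg
  -- injectivity of `φ`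
  have hφrepr : ∀ x : A, φ x = ∑ i, algebraMap F[X] K (a.repr x i) • a' i := by
    intro x
    conv_lhs => rw [← a.sum_repr x]
    rw [map_sum]
    refine Finset.sum_congr rfl fun i _ => ?_
    rw [Algebra.smul_def, map_mul, hφ, ha, Algebra.smul_def]
  have hψrepr : ∀ x : C', ψ x = ∑ i, algebraMap V K (c.repr x i) • c' i := by
    intro x
    conv_lhs => rw [← c.sum_repr x]
    rw [map_sum]
    refine Finset.sum_congr rfl fun i _ => ?_
    rw [Algebra.smul_def, map_mul, hψ, hc, Algebra.smul_def]
  have hcoef : ∀ x : A, ∀ i, a'.repr (φ x) i = algebraMap F[X] K (a.repr x i) := by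
    intro x i
    rw [hφrepr, map_sum, Finsupp.finsetSum_apply, Finset.sum_eq_single i]
    · rw [map_smul, Basis.repr_self, Finsupp.smul_apply, Finsupp.single_eq_same, smul_eq_mul, mul_one]
    · intro j _ hj
      rw [map_smul, Basis.repr_self, Finsupp.smul_apply, Finsupp.single_eq_of_ne (Ne.symm hj), smul_zero]
    · intro h
      exact absurd (Finset.mem_univ i) h
  have hφinj : Function.Injective φ := by
    rw [injective_iff_map_eq_zero]
    intro x hx
    have : a.repr x = 0 := by
      ext1 i
      apply FaithfulSMul.algebraMap_injective F[X] K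
      rw [← hcoef, hx]
      simp
    simpa using this
  have hcoefc : ∀ (h : Fin d → K) (i : Fin d), a'.repr (∑ j, h j • c' j) i = ∑ j, P i j * h j := by
    intro h i
    rw [map_sum, Finsupp.finsetSum_apply]
    refine Finset.sum_congr rfl fun j _ => ?_
    rw [map_smul, Finsupp.smul_apply, smul_eq_mul, mul_comm]
    rfl
  -- the set of global sections
  let S : Set A := {x | ∃ z, φ x = ψ z}
  have hS1 : (1 : A) ∈ S := ⟨1, by rw [map_one, map_one]⟩
  have hS0 : (0 : A) ∈ S := ⟨0, by rw [map_zero, map_zero]⟩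
  have hSmul : ∀ x y, x ∈ S → y ∈ S → x * y ∈ S := by
    rintro x y ⟨z, hz⟩ ⟨z', hz'⟩
    exact ⟨z * z', by rw [map_mul, map_mul, hz, hz']⟩
  have hSadd : ∀ x y, x ∈ S → y ∈ S → x + y ∈ S := by
    rintro x y ⟨z, hz⟩ ⟨z', hz'⟩
    exact ⟨z + z', by rw [map_add, map_add, hz, hz']⟩
  have hSsub : ∀ x y, x ∈ S → y ∈ S → x - y ∈ S := by
    rintro x y ⟨z, hz⟩ ⟨z', hz'⟩
    exact ⟨z - z', by rw [map_sub, map_sub, hz, hz']⟩
  have hSsum : ∀ (n : ℕ) (x : Fin n → A), (∀ i, x i ∈ S) → ∑ i, x i ∈ S := by
    intro n x hx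
    exact Finset.sum_induction _ (fun y => y ∈ S) hSadd hS0 fun i _ => hx i
  have hSC : ∀ z : F, algebraMap F[X] A (C z) ∈ S := by
    intro z
    refine ⟨algebraMap V C' (algebraMap F V z), ?_⟩
    rw [hφ, hψ, ← IsScalarTower.algebraMap_apply F V K]
    congr 1
    exact (IsScalarTower.algebraMap_apply F F[X] K z).symm
  -- `χ` is injective on `S`
  have hχinj : ∀ x ∈ S, χ x = 0 → x = 0 := by
    rintro x ⟨z, hz⟩ hx
    obtain ⟨b, rfl⟩ := hχ0 x hx
    have hb : φ b = ψ (algebraMap V C' s * z) := by
      rw [map_mul, hψ, ← hz, map_mul, hφ, ← mul_assoc, ← map_mul, hst, map_one, one_mul]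
    obtain ⟨m, hm⟩ := PolyInf.exists_pow_mul hs (fun ij : Fin d × Fin d => P ij.1 ij.2)
    choose q hq using hm
    have hbm : b ^ (m + 1) = 0 := by
      have h1 : φ (b ^ (m + 1)) = ∑ j, (algebraMap V K s ^ (m + 1) * algebraMap V K (c.repr (z ^ (m + 1)) j)) • c' j := by
        rw [map_pow, hb, ← map_pow, mul_pow, map_mul, hψrepr (z ^ (m + 1)), ← map_pow (algebraMap V C') s, hψ,
          Finset.mul_sum]
        refine Finset.sum_congr rfl fun j _ => ?_
        rw [mul_smul, map_pow, Algebra.smul_def (algebraMap V K s ^ (m + 1))]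
      have h2 : a.repr (b ^ (m + 1)) = 0 := by
        ext1 i
        have h3 := hcoef (b ^ (m + 1)) i
        rw [h1, hcoefc] at h3
        refine PolyInf.eq_zero_of_dvd s hs hst _ (∑ j, q (i, j) * c.repr (z ^ (m + 1)) j) ?_
        rw [← h3, map_mul, map_sum, Finset.mul_sum]
        refine Finset.sum_congr rfl fun j _ => ?_
        rw [map_mul, hq (i, j), pow_succ]
        ring
      simpa using h2
    have hφb : φ b = 0 := by
      apply pow_eq_zero_iff (n := m + 1) (Nat.succ_ne_zero m) |>.mp
      rw [← map_pow, hbm, map_zero]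
    have : b = 0 := hφinj (by rw [hφb, map_zero])
    rw [this, mul_zero]
  -- the sections `y k`
  let y : Fin d → A := fun k => ∑ i, w k i • a i
  have hyS : ∀ k, y k ∈ S := by
    intro k
    refine ⟨∑ j, g k j • c j, ?_⟩
    have h1 : φ (y k) = ∑ i, algebraMap F[X] K (w k i) • a' i := by
      simp only [y, map_sum, Algebra.smul_def, map_mul, hφ, ha]
    have h2 : ψ (∑ j, g k j • c j) = ∑ j, algebraMap V K (g k j) • c' j := by
      simp only [map_sum, Algebra.smul_def, map_mul, hψ, hc]
    rw [h1, h2]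
    apply a'.repr.injective
    ext1 i
    rw [hcoefc, ← hg, map_sum, Finsupp.finsetSum_apply, Finset.sum_eq_single i]
    · rw [map_smul, Basis.repr_self, Finsupp.smul_apply, Finsupp.single_eq_same, smul_eq_mul, mul_one]
    · intro j _ hj
      rw [map_smul, Basis.repr_self, Finsupp.smul_apply, Finsupp.single_eq_of_ne (Ne.symm hj), smul_zero]
    · intro h
      exact absurd (Finset.mem_univ i) h
  -- `χ (y k)` is a basis
  have hχy : LinearIndependent F (fun k => χ (y k)) := by
    rw [Fintype.linearIndependent_iff]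
    intro r hr
    have h1 : χ (∑ k, algebraMap F[X] A (C (r k)) * y k) = 0 := by
      rw [map_sum, ← hr]
      refine Finset.sum_congr rfl fun k _ => ?_
      rw [map_mul, hχ]
      ext i
      simp
    have h2 := hχinj _ (hSsum d _ fun k => hSmul _ _ (hSC _) (hyS k)) h1
    have h3 : ∑ k, r k • w k = 0 := by
      have h4 : ∑ i, (∑ k, r k • w k) i • a i = 0 := by
        rw [← h2]
        simp only [y, Finset.sum_apply, Finset.sum_smul, Finset.mul_sum]
        rw [Finset.sum_comm]
        refine Finset.sum_congr rfl fun k _ => Finset.sum_congr rfl fun i _ => ?_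
        rw [Pi.smul_apply, Polynomial.smul_eq_C_mul, Algebra.smul_def, Algebra.smul_def, map_mul, mul_assoc]
      ext1 i
      exact Fintype.linearIndependent_iff.mp a.linearIndependent _ h4 i
    exact Fintype.linearIndependent_iff.mp hw r h3
  have hspan : ∀ i : Fin d, ∃ η ∈ S, χ η = Pi.single i 1 := by
    intro i
    have htop : Submodule.span F (Set.range fun k => χ (y k)) = ⊤ :=
      hχy.span_eq_top_of_card_eq_finrank' (by simp)
    have hmem : (Pi.single i 1 : Fin d → F) ∈ Submodule.span F (Set.range fun k => χ (y k)) := by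
      rw [htop]; trivial
    obtain ⟨r, hr⟩ := (Submodule.mem_span_range_iff_exists_fun F).mp hmem
    refine ⟨∑ k, algebraMap F[X] A (C (r k)) * y k, hSsum d _ fun k => hSmul _ _ (hSC _) (hyS k), ?_⟩
    rw [map_sum, ← hr]
    refine Finset.sum_congr rfl fun k _ => ?_
    rw [map_mul, hχ]
    ext i
    simp
  choose η hηS hη using hspan
  have heq : ∀ x y, x ∈ S → y ∈ S → χ x = χ y → x = y := by
    intro x y hx hy h
    have := hχinj (x - y) (hSsub x y hx hy) (by rw [map_sub, h, sub_self])
    exact sub_eq_zero.mp this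
  have hηmul : ∀ i j, η i * η j = if i = j then η i else 0 := by
    intro i j
    split_ifs with hij
    · subst hij
      apply heq _ _ (hSmul _ _ (hηS i) (hηS i)) (hηS i)
      rw [map_mul, hη, ← Pi.single_mul, one_mul]
    · apply heq _ _ (hSmul _ _ (hηS i) (hηS j)) hS0
      rw [map_mul, hη, hη, map_zero]
      ext k
      by_cases hk : k = i
      · subst hk
        simp [hij]
      · simp [Pi.single_apply, hk]
  have hηsum : ∑ i, η i = 1 := by
    apply heq _ _ (hSsum d _ hηS) hS1
    rw [map_sum, map_one]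
    simp only [hη]
    exact Finset.univ_sum_single (1 : Fin d → F)
  have hfin : Module.Finite K E := Module.Finite.of_basis a'
  refine algEquiv_of_idem (by rw [Module.finrank_eq_card_basis a', Fintype.card_fin]) (fun i => φ (η i)) ?_ ?_ ?_
  · intro i j
    rw [← map_mul, hηmul]
    split_ifs
    · rfl
    · rw [map_zero]
  · rw [← map_sum, hηsum, map_one]
  · intro i h
    have h1 : η i = 0 := hφinj (by rw [h, map_zero])
    have h2 := hη i
    rw [h1, map_zero] at h2
    have h3 := congrFun h2 i
    simp at h3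

end Groth.Agent.Pi1.H396.P1Core
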