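import Groth.Agent.Pi1.H396.P1Core
import Groth.Agent.S2195
import Mathlib.RingTheory.Unramified.Field
import Mathlib.RingTheory.Etale.Basic
import Mathlib.LinearAlgebra.Trace
import Mathlib.RingTheory.TensorProduct.Free
import Mathlib.RingTheory.Flat.TorsionFree
import Mathlib.RingTheory.Smooth.Flat
import Mathlib.Algebra.Module.PID

/-!
# Finite étale covers of the projective line which split over a rational point are split (tensor form)
-/

set_option autoImplicit false

universe u v w

open Polynomial TensorProduct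

namespace Groth.Agent.Pi1.H396.P1Tensor

open Module

/-- The discriminant of a basis commutes with base change. -/
theorem discr_baseChange {R : Type u} {R' : Type v} {B : Type w} [CommRing R] [CommRing R'] [CommRing B] [Algebra R R']
    [Algebra R B] {d : ℕ} (b : Basis (Fin d) R B) :
    Algebra.discr R' (Algebra.TensorProduct.basis R' b) = algebraMap R R' (Algebra.discr R b) := by
  have hfin : Module.Finite R B := Module.Finite.of_basis b
  have hfree : Module.Free R B := Module.Free.of_basis b
  rw [Algebra.discr_def, Algebra.discr_def, RingHom.map_det]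
  congr 1
  ext i j
  simp only [Algebra.traceMatrix_apply, Algebra.traceForm_apply, Algebra.TensorProduct.basis_apply,
    Algebra.TensorProduct.tmul_mul_tmul, one_mul, RingHom.mapMatrix_apply, Matrix.map_apply]
  have h2 : Algebra.lmul R' (R' ⊗[R] B) ((1 : R') ⊗ₜ[R] (b i * b j)) = (Algebra.lmul R B (b i * b j)).baseChange R' := by
    refine TensorProduct.AlgebraTensorModule.ext fun a b => ?_
    simp
  rw [Algebra.trace_apply, h2, LinearMap.trace_baseChange, Algebra.trace_apply]

/-- A finite étale algebra over a principal ideal domain is free. -/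
theorem free_of_etale (R : Type u) (B : Type v) [CommRing R] [IsDomain R] [IsPrincipalIdealRing R] [CommRing B]
    [Algebra R B] [Module.Finite R B] [Algebra.Etale R B] : Module.Free R B := by
  have : Module.Flat R B := inferInstance
  infer_instance

theorem split {F : Type u} [Field F] {K : Type u} [Field K] [Algebra F[X] K] [Algebra F K] [IsScalarTower F F[X] K]
    [IsFractionRing F[X] K]
    {V : Type u} [CommRing V] [IsDomain V] [IsDiscreteValuationRing V] [Algebra V K] [IsFractionRing V K]
    [Algebra F V] [IsScalarTower F V K] {s : V} (hs : Irreducible s)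
    (hst : algebraMap V K s * algebraMap F[X] K X = 1)
    (hres : ∀ v : V, ∃ c : F, v - algebraMap F V c ∈ IsLocalRing.maximalIdeal V)
    (A : Type u) [CommRing A] [Algebra F[X] A] [Module.Finite F[X] A] [Algebra.Etale F[X] A]
    (C' : Type u) [CommRing C'] [Algebra V C'] [Module.Finite V C'] [Algebra.Etale V C']
    (ε : K ⊗[V] C' ≃ₐ[K] K ⊗[F[X]] A)
    [Algebra F[X] F] (h0 : ∀ f : F[X], algebraMap F[X] F f = f.eval 0)
    {ι : Type u} [Finite ι] (e0 : F ⊗[F[X]] A ≃ₐ[F] (ι → F)) :
    ∃ d : ℕ, Nonempty ((Fin d → K) ≃ₐ[K] K ⊗[F[X]] A) := by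
  have hfree : Module.Free F[X] A := free_of_etale _ _
  have hfreeC : Module.Free V C' := free_of_etale _ _
  let d : ℕ := Module.finrank F[X] A
  let a : Basis (Fin d) F[X] A := Module.finBasis F[X] A
  let a' : Basis (Fin d) K (K ⊗[F[X]] A) := Algebra.TensorProduct.basis K a
  have hd : Module.finrank V C' = d := by
    have h1 : Module.finrank K (K ⊗[F[X]] A) = d := by
      rw [Module.finrank_eq_card_basis a', Fintype.card_fin]
    rw [← h1, ← ε.toLinearEquiv.finrank_eq, Module.finrank_baseChange]
  let c : Basis (Fin d) V C' := Module.finBasisOfFinrankEq V C' hd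
  let c' : Basis (Fin d) K (K ⊗[F[X]] A) := (Algebra.TensorProduct.basis K c).map ε.toLinearEquiv
  have hred : IsReduced (K ⊗[F[X]] A) := Algebra.FormallyUnramified.isReduced_of_field K (K ⊗[F[X]] A)
  have hua : IsUnit (Algebra.discr F[X] a) := (Groth.Agent.S2195.result a).mp inferInstance
  have huc : IsUnit (Algebra.discr V c) := (Groth.Agent.S2195.result c).mp inferInstance
  have hda : Algebra.discr K a' = algebraMap F[X] K (Algebra.discr F[X] a) := discr_baseChange a
  have hdc : Algebra.discr K c' = algebraMap V K (Algebra.discr V c) := by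
    rw [← discr_baseChange (R' := K) c]
    exact (Algebra.discr_eq_discr_of_algEquiv (Algebra.TensorProduct.basis K c) ε).symm
  -- the special fibre
  have hcard : Nat.card ι = d := by
    have h1 : Module.finrank F (F ⊗[F[X]] A) = d := by
      rw [Module.finrank_baseChange]
    have := Fintype.ofFinite ι
    rw [← h1, e0.toLinearEquiv.finrank_eq, Module.finrank_pi, Nat.card_eq_fintype_card]
  let eι : Fin d ≃ ι := (Finite.equivFinOfCardEq hcard).symm
  let χ : A →+* (Fin d → F) := ((AlgEquiv.piCongrLeft' F (fun _ : ι => F) eι.symm).toRingEquiv.toRingHom.comp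
    e0.toRingEquiv.toRingHom).comp (Algebra.TensorProduct.includeRight : A →ₐ[F[X]] F ⊗[F[X]] A).toRingHom
  have hχa : ∀ x : A, χ x = (AlgEquiv.piCongrLeft' F (fun _ : ι => F) eι.symm) (e0 (1 ⊗ₜ x)) := fun x => rfl
  have hχ : ∀ z : F, χ (algebraMap F[X] A (C z)) = fun _ => z := by
    intro z
    have h1 : (1 : F) ⊗ₜ[F[X]] (algebraMap F[X] A (C z)) = algebraMap F (F ⊗[F[X]] A) z := by
      rw [Algebra.algebraMap_eq_smul_one, TensorProduct.tmul_smul, TensorProduct.smul_tmul',
        Algebra.TensorProduct.algebraMap_apply]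
      congr 1
      rw [Algebra.smul_def, h0, mul_one, Polynomial.eval_C]
      rfl
    rw [hχa, h1, AlgEquiv.commutes, AlgEquiv.commutes]
    rfl
  have hχ0 : ∀ x, χ x = 0 → ∃ y, x = algebraMap F[X] A X * y := by
    intro x hx
    have h1 : (1 : F) ⊗ₜ[F[X]] x = 0 := by
      rw [hχa, ← map_zero (AlgEquiv.piCongrLeft' F (fun _ : ι => F) eι.symm)] at hx
      have hx1 := (AlgEquiv.piCongrLeft' F (fun _ : ι => F) eι.symm).injective hx
      rw [← map_zero e0] at hx1
      exact e0.injective hx1
    have h2 : ∀ i, ∃ g : F[X], a.repr x i = X * g := by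
      intro i
      have h3 : (Algebra.TensorProduct.basis F a).repr ((1 : F) ⊗ₜ[F[X]] x) i = 0 := by
        rw [h1]; simp
      rw [Algebra.TensorProduct.basis_repr_tmul] at h3
      have h4 : (a.repr x i).eval 0 = 0 := by
        simpa [h0] using h3
      exact Polynomial.X_dvd_iff.mpr (by rwa [Polynomial.coeff_zero_eq_eval_zero])
    choose g hg using h2
    refine ⟨∑ i, g i • a i, ?_⟩
    conv_lhs => rw [← a.sum_repr x]
    rw [Finset.mul_sum]
    refine Finset.sum_congr rfl fun i _ => ?_
    rw [hg, mul_smul, Algebra.smul_def X]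
  refine ⟨d, P1Core.split_of_lattices hs hst hres
    (Algebra.TensorProduct.includeRight : A →ₐ[F[X]] K ⊗[F[X]] A).toRingHom ?_
    (ε.toRingEquiv.toRingHom.comp (Algebra.TensorProduct.includeRight : C' →ₐ[V] K ⊗[V] C').toRingHom) ?_
    a a' ?_ c c' ?_ hua huc hda hdc χ hχ hχ0⟩
  · intro f
    change (1 : K) ⊗ₜ[F[X]] (algebraMap F[X] A f) = algebraMap F[X] K f ⊗ₜ 1
    rw [Algebra.algebraMap_eq_smul_one, TensorProduct.tmul_smul, TensorProduct.smul_tmul', Algebra.smul_def, mul_one]
  · intro v
    change ε ((1 : K) ⊗ₜ[V] (algebraMap V C' v)) = _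
    have h1 : (1 : K) ⊗ₜ[V] (algebraMap V C' v) = algebraMap K (K ⊗[V] C') (algebraMap V K v) := by
      rw [Algebra.algebraMap_eq_smul_one, TensorProduct.tmul_smul, TensorProduct.smul_tmul', Algebra.smul_def, mul_one]
      rfl
    rw [h1, AlgEquiv.commutes]
  · intro i
    exact (Algebra.TensorProduct.basis_apply a i).symm
  · intro i
    change ε ((1 : K) ⊗ₜ[V] (c i)) = _
    rw [Basis.map_apply, Algebra.TensorProduct.basis_apply]
    rfl

end Groth.Agent.Pi1.H396.P1Tensor
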