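import Mathlib.RingTheory.Polynomial.Basic
import Mathlib.RingTheory.Localization.Integer
import Mathlib.LinearAlgebra.Dimension.Finite
import Mathlib.LinearAlgebra.FiniteDimensional.Lemmas
import Mathlib.RingTheory.Localization.FractionRing
import Groth.Agent.Pi1.H396.LenRes

/-!
# Polynomials and the place at infinity of the projective line

`K` is the fraction field of `F[X]` and of a discrete valuation ring `V` with uniformizer `s = 1/X` and residue
field `F`.  For an invertible matrix `P` over `K` whose determinant is a unit of `V`, the vectors of polynomials `f`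
with `f ∈ P V^d` form an `F`-vector space of dimension at least `d` (Riemann-Roch for vector bundles on the
projective line).
-/

set_option autoImplicit false

universe u v w

open Polynomial

namespace Groth.Agent.Pi1.H396.PolyInf

section

variable {F : Type u} [Field F] {K : Type u} [Field K] [Algebra F[X] K] [Algebra F K] [IsScalarTower F F[X] K]
  {V : Type u} [CommRing V] [Algebra V K] [Algebra F V] [IsScalarTower F V K]

/-- The polynomial with given coefficients. -/
noncomputable def poly (F : Type u) [Field F] (m : ℕ) : (Fin (m + 1) → F) →ₗ[F] F[X] :=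
  ∑ j : Fin (m + 1), (Polynomial.monomial (R := F) (j : ℕ)).comp (LinearMap.proj j)

theorem poly_apply (m : ℕ) (c : Fin (m + 1) → F) :
    poly F m c = ∑ j : Fin (m + 1), Polynomial.monomial (j : ℕ) (c j) := by
  simp [poly]

theorem poly_injective (m : ℕ) : Function.Injective (poly F m) := by
  rw [← LinearMap.ker_eq_bot, LinearMap.ker_eq_bot']
  intro c hc
  ext i
  have h := congrArg (fun p => Polynomial.coeff p (i : ℕ)) hc
  rw [poly_apply] at h
  simp only [Polynomial.finsetSum_coeff, Polynomial.coeff_monomial, Polynomial.coeff_zero] at h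
  rw [Finset.sum_eq_single i] at h
  · simpa using h
  · intro j _ hj
    rw [if_neg]
    intro h'
    exact hj (Fin.ext h')
  · intro h'
    exact absurd (Finset.mem_univ i) h'

/-- The element `s ^ m * f` of `V` for a polynomial `f` of degree at most `m`. -/
noncomputable def rev (F : Type u) [Field F] {V : Type u} [CommRing V] [Algebra F V] (s : V) (m : ℕ) :
    (Fin (m + 1) → F) →ₗ[F] V :=
  ∑ j : Fin (m + 1), (LinearMap.proj (R := F) (φ := fun _ : Fin (m + 1) => F) j).smulRight (s ^ (m - j))

theorem rev_apply (s : V) (m : ℕ) (c : Fin (m + 1) → F) :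
    rev F s m c = ∑ j : Fin (m + 1), c j • s ^ (m - j) := by
  simp [rev]

theorem algebraMap_rev (s : V) (hst : algebraMap V K s * algebraMap F[X] K X = 1) (m : ℕ)
    (c : Fin (m + 1) → F) :
    algebraMap V K (rev F s m c) = algebraMap V K s ^ m * algebraMap F[X] K (poly F m c) := by
  rw [rev_apply, poly_apply, map_sum, map_sum, Finset.mul_sum]
  refine Finset.sum_congr rfl fun j _ => ?_
  have hj : (m - (j : ℕ)) + (j : ℕ) = m := Nat.sub_add_cancel (Nat.lt_succ_iff.mp j.2)
  rw [Algebra.smul_def, map_mul, ← IsScalarTower.algebraMap_apply, map_pow,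
    ← Polynomial.C_mul_X_pow_eq_monomial, map_mul, map_pow]
  have h1 : algebraMap F[X] K (Polynomial.C (c j)) = algebraMap F K (c j) :=
    (IsScalarTower.algebraMap_apply F F[X] K (c j)).symm
  rw [h1]
  have h0 : algebraMap V K s ^ m = algebraMap V K s ^ (m - (j : ℕ)) * algebraMap V K s ^ (j : ℕ) := by
    rw [← pow_add, hj]
  rw [h0]
  have h2 : algebraMap V K s ^ (j : ℕ) * algebraMap F[X] K X ^ (j : ℕ) = 1 := by
    rw [← mul_pow, hst, one_pow]
  linear_combination (-(algebraMap F K (c j)) * algebraMap V K s ^ (m - (j : ℕ))) * h2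

/-- A polynomial which is divisible by `s` at infinity is zero. -/
theorem eq_zero_of_dvd [FaithfulSMul V K] (s : V) (hs : Irreducible s)
    (hst : algebraMap V K s * algebraMap F[X] K X = 1) (f : F[X]) (v : V)
    (h : algebraMap F[X] K f = algebraMap V K (s * v)) : f = 0 := by
  by_contra hf
  -- `s ^ n * f = lc + s * w`
  have key : ∀ (n : ℕ) (g : F[X]), g.natDegree ≤ n → ∃ w : V, algebraMap V K s ^ n * algebraMap F[X] K g =
      algebraMap V K (algebraMap F V (g.coeff n) + s * w) := by
    intro n
    induction n with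
    | zero =>
      intro g hg
      refine ⟨0, ?_⟩
      rw [Polynomial.eq_C_of_natDegree_le_zero hg]
      rw [Polynomial.coeff_C_zero, mul_zero, add_zero, pow_zero, one_mul, ← IsScalarTower.algebraMap_apply F V K,
        IsScalarTower.algebraMap_apply F F[X] K]
      rfl
    | succ n ih =>
      intro g hg
      have hg' : (g - Polynomial.monomial (n + 1) (g.coeff (n + 1))).natDegree ≤ n := by
        rw [Polynomial.natDegree_le_iff_coeff_eq_zero]
        intro k hk
        rw [Polynomial.coeff_sub, Polynomial.coeff_monomial]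
        by_cases hkn : n + 1 = k
        · subst hkn; simp
        · rw [if_neg hkn, sub_zero]
          exact Polynomial.coeff_eq_zero_of_natDegree_lt (by omega)
      obtain ⟨w, hw⟩ := ih _ hg'
      refine ⟨algebraMap F V ((g - Polynomial.monomial (n + 1) (g.coeff (n + 1))).coeff n) + s * w, ?_⟩
      have h2 : algebraMap V K s ^ (n + 1) * algebraMap F[X] K X ^ (n + 1) = 1 := by
        rw [← mul_pow, hst, one_pow]
      have h3 : algebraMap F[X] K g = algebraMap F[X] K (g - Polynomial.monomial (n + 1) (g.coeff (n + 1))) +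
          algebraMap F K (g.coeff (n + 1)) * algebraMap F[X] K X ^ (n + 1) := by
        rw [IsScalarTower.algebraMap_apply F F[X] K, ← map_pow, ← map_mul, ← map_add]
        congr 1
        change g = _ + Polynomial.C (g.coeff (n + 1)) * X ^ (n + 1)
        rw [Polynomial.C_mul_X_pow_eq_monomial]
        ring
      rw [map_add, map_mul, ← hw, h3, ← IsScalarTower.algebraMap_apply F V K]
      linear_combination (algebraMap F K (g.coeff (n + 1))) * h2
  obtain ⟨w, hw⟩ := key f.natDegree f le_rfl
  rw [h, ← map_pow, ← map_mul] at hw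
  have h1 := FaithfulSMul.algebraMap_injective V K hw
  have h2 : s ∣ algebraMap F V (f.coeff f.natDegree) := by
    refine ⟨s ^ f.natDegree * v - w, ?_⟩
    linear_combination -h1
  have h3 : IsUnit (algebraMap F V (f.coeff f.natDegree)) := by
    apply IsUnit.map
    exact isUnit_iff_ne_zero.mpr (by simpa using hf)
  exact hs.not_isUnit (isUnit_of_dvd_unit h2 h3)

end

section Main

variable {F : Type u} [Field F] {K : Type u} [Field K] [Algebra F[X] K] [Algebra F K] [IsScalarTower F F[X] K]
  [FaithfulSMul F[X] K]
  {V : Type u} [CommRing V] [IsDomain V] [IsDiscreteValuationRing V] [Algebra V K] [IsFractionRing V K]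
  [Algebra F V] [IsScalarTower F V K]

/-- Finitely many elements of `K` become elements of `V` after multiplication with a power of `s`. -/
theorem exists_pow_mul {s : V} (hs : Irreducible s) {ι : Type} [Finite ι] (f : ι → K) :
    ∃ m : ℕ, ∀ i, ∃ v : V, algebraMap V K v = algebraMap V K s ^ m * f i := by
  obtain ⟨⟨b, hb⟩, h⟩ := IsLocalization.exist_integer_multiples_of_finite (nonZeroDivisors V) f
  obtain ⟨m, u, hu⟩ := IsDiscreteValuationRing.eq_unit_mul_pow_irreducible (nonZeroDivisors.ne_zero hb) hs
  refine ⟨m, fun i => ?_⟩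
  obtain ⟨v, hv⟩ := h i
  refine ⟨(↑u⁻¹ : V) * v, ?_⟩
  rw [map_mul, hv]
  change _ * (b • f i) = _
  rw [Algebra.smul_def, hu, map_mul, map_pow]
  have : algebraMap V K (↑u⁻¹ : V) * algebraMap V K (↑u : V) = 1 := by
    rw [← map_mul, Units.inv_mul, map_one]
  linear_combination (algebraMap V K s ^ m * f i) * this

/-- Riemann-Roch for vector bundles of degree zero on the projective line. -/
theorem exists_linearIndependent {s : V} (hs : Irreducible s)
    (hst : algebraMap V K s * algebraMap F[X] K X = 1)
    (hres : ∀ v : V, ∃ c : F, v - algebraMap F V c ∈ IsLocalRing.maximalIdeal V)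
    {d : ℕ} (P : Matrix (Fin d) (Fin d) K) {u : V} (hu : IsUnit u) (hP : P.det = algebraMap V K u) :
    ∃ w : Fin d → (Fin d → F[X]), LinearIndependent F w ∧
      ∀ k, ∃ g : Fin d → V, ∀ i, algebraMap F[X] K (w k i) = ∑ j, P i j * algebraMap V K (g j) := by
  obtain ⟨m, hm⟩ := exists_pow_mul hs (fun ij : Fin d × Fin d => P ij.1 ij.2)
  choose q hq using hm
  let Q : Matrix (Fin d) (Fin d) V := Matrix.of fun i j => q (i, j)
  have hQ : ∀ i j, algebraMap V K (Q i j) = algebraMap V K s ^ m * P i j := fun i j => hq (i, j)
  have hQdet : Q.det = s ^ (d * m) * u := by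
    apply FaithfulSMul.algebraMap_injective V K
    rw [RingHom.map_det, map_mul, map_pow, ← hP]
    have : (algebraMap V K).mapMatrix Q = (algebraMap V K s ^ m) • P := by
      ext i j
      simp [hQ]
    rw [this, Matrix.det_smul, Fintype.card_fin, ← pow_mul, mul_comm m d]
  obtain ⟨hfin, hrk⟩ := LenRes.finrank_coker hres Q s u hs hu (d * m) hQdet
  -- the linear map
  let R : (Fin d → Fin (m + 1) → F) →ₗ[F] (Fin d → V) :=
    LinearMap.pi fun i => (rev F s m).comp (LinearMap.proj i)
  let θ : (Fin d → Fin (m + 1) → F) →ₗ[F] ((Fin d → V) ⧸ LinearMap.range Q.mulVecLin) :=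
    ((LinearMap.range Q.mulVecLin).mkQ.restrictScalars F).comp R
  have h1 := LinearMap.finrank_range_add_finrank_ker (f := θ)
  have h2 : Module.finrank F (Fin d → Fin (m + 1) → F) = d * (m + 1) := by
    rw [Module.finrank_pi_fintype]
    simp
  have h3 : Module.finrank F (LinearMap.range θ) ≤ d * m := by
    rw [← hrk]
    exact Submodule.finrank_le _
  have h4 : d ≤ Module.finrank F (LinearMap.ker θ) := by
    rw [h2, mul_add, mul_one] at h1
    omega
  obtain ⟨f, hf⟩ := exists_linearIndependent_of_le_finrank h4
  let Po : (Fin d → Fin (m + 1) → F) →ₗ[F] (Fin d → F[X]) :=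
    LinearMap.pi fun i => (poly F m).comp (LinearMap.proj i)
  have hPo : Function.Injective Po := by
    intro a b hab
    ext1 i
    exact poly_injective m (congrFun hab i)
  refine ⟨fun k => Po (f k : Fin d → Fin (m + 1) → F), ?_, ?_⟩
  · have h5 := hf.map' (LinearMap.ker θ).subtype (LinearMap.ker_eq_bot.mpr (Submodule.subtype_injective _))
    exact h5.map' Po (LinearMap.ker_eq_bot.mpr hPo)
  · intro k
    have hk : θ (f k : Fin d → Fin (m + 1) → F) = 0 := (f k).2
    have hk' : R (f k : Fin d → Fin (m + 1) → F) ∈ LinearMap.range Q.mulVecLin := by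
      rw [← Submodule.Quotient.mk_eq_zero]
      exact hk
    obtain ⟨g, hg⟩ := hk'
    refine ⟨g, fun i => ?_⟩
    have h6 := congrArg (algebraMap V K) (congrFun hg i)
    have h7 : algebraMap V K (R (f k : Fin d → Fin (m + 1) → F) i) =
        algebraMap V K s ^ m * algebraMap F[X] K (Po (f k : Fin d → Fin (m + 1) → F) i) :=
      algebraMap_rev s hst m _
    rw [h7, Matrix.mulVecLin_apply] at h6
    change algebraMap V K (∑ j, Q i j * g j) = _ at h6
    rw [map_sum] at h6
    have hs0 : algebraMap V K s ^ m ≠ 0 := by
      apply pow_ne_zero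
      intro h0
      rw [h0, zero_mul] at hst
      exact zero_ne_one hst
    apply mul_left_cancel₀ hs0
    rw [← h6, Finset.mul_sum]
    refine Finset.sum_congr rfl fun j _ => ?_
    rw [map_mul, hQ, mul_assoc]

end Main

end Groth.Agent.Pi1.H396.PolyInf
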